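import Cfsg.Agent.Lib.Helper4.TC.Std

/-! Letter coding for two generators (codes 0,1 = first generator and its inverse; 2,3 = second). -/

set_option autoImplicit false
set_option linter.unusedVariables false

namespace Cfsg.Agent.Lib.Helper5.Sp62TC.Cod2

open Cfsg.Agent.Helper4.TC

def gens : List (Fin 2) := [0, 1]

abbrev dec : ℕ → Letter (Fin 2) := stdDec gens 0
abbrev enc : Fin 2 → ℕ := stdEnc gens

theorem coding : Coding dec enc 4 :=
  std_coding gens 0 (by decide) (by decide) 4 (by decide)

end Cfsg.Agent.Lib.Helper5.Sp62TC.Cod2
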